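import Cfsg.Agent.Lib.BG.Defs
import Cfsg.Agent.Lib.Extraspecial.Data

/-! The wreath product `S₃ ≀ S₄` acting on `𝔽₂⁸` (helper24). -/

set_option autoImplicit false

namespace Cfsg.Lib.O83

open Subgroup DihedralGroup Equiv

theorem cs {G : Type*} [Group G] {a b : G} (h : a * b = b * a) :
    (a * b = b * a ∧ a⁻¹ * b = b * a⁻¹ ∧ a * b⁻¹ = b⁻¹ * a ∧ a⁻¹ * b⁻¹ = b⁻¹ * a⁻¹) ∧
    (∀ c, a * (b * c) = b * (a * c)) ∧ (∀ c, a⁻¹ * (b * c) = b * (a⁻¹ * c)) ∧ (∀ c, a * (b⁻¹ * c) = b⁻¹ * (a * c)) ∧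
    ∀ c, a⁻¹ * (b⁻¹ * c) = b⁻¹ * (a⁻¹ * c) :=
  have k : Commute a b := h
  ⟨⟨k, k.inv_left, k.inv_right, k.inv_inv⟩, k.left_comm, k.inv_left.left_comm, k.inv_right.left_comm, k.inv_inv.left_comm⟩

/-- normalisation modulo commutations -/
scoped macro "cg " "[" hs:term,* "]" : tactic => `(tactic| simp only [mul_assoc, _root_.mul_inv_rev, inv_inv, mul_inv_cancel_left,
  inv_mul_cancel_left, mul_inv_cancel, inv_mul_cancel, mul_one, one_mul, inv_one, $[(cs $hs)],*])

theorem mq {G : Type*} [Group G] {X : Subgroup G} {x y : G} (m : x ∈ X) (e : x = y) : y ∈ X := e ▸ m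

/-- the plane -/
abbrev V2 := ZMod 2 × ZMod 2
/-- its linear group -/
abbrev D3 := DihedralGroup 3
/-- exponent vectors -/
abbrev Z4 := Fin 4 → ZMod 3
/-- a rotation -/
def rt (v : V2) : V2 := (v.2, v.1 + v.2)
/-- the action on the plane -/
def a2 : D3 → V2 → V2
  | .r i, v => rt^[i.val] v
  | .sr i, v => ((rt^[i.val] v).1 + (rt^[i.val] v).2, (rt^[i.val] v).2)
/-- the nonzero vectors -/
def om (e : ZMod 3) : V2 := rt^[e.val] (1, 0)
/-- the alternating form -/
def b2 (u v : V2) : ZMod 2 := u.1 * v.2 + u.2 * v.1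
/-- the norm form -/
def q2 (u : V2) : ZMod 2 := u.1 * u.1 + u.1 * u.2 + u.2 * u.2
/-- the module -/
abbrev V := Fin 4 → V2
/-- the wreath product -/
abbrev Om := (Fin 4 → D3) ⋊[mulAutArrow] Perm (Fin 4)
/-- the action -/
def ac (g : Om) (v : V) : V := fun i => a2 (g.left i) (v (g.right⁻¹ i))
/-- the bilinear form -/
def bf (u v : V) : ZMod 2 := b2 (u 0) (v 0) + b2 (u 1) (v 1) + b2 (u 2) (v 2) + b2 (u 3) (v 3)
/-- the quadratic form -/
def qf (v : V) : ZMod 2 := q2 (v 0) + q2 (v 1) + q2 (v 2) + q2 (v 3)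
/-- rotations -/
def rot (c : Z4) : Om := ⟨fun i => r (c i), 1⟩
/-- reflections -/
def srot (c : Z4) : Om := ⟨fun i => sr (c i), 1⟩
/-- the four-group -/
def vv : Fin 4 → Perm (Fin 4) := ![1, swap 0 1 * swap 2 3, swap 0 2 * swap 1 3, swap 0 3 * swap 1 2]
/-- the group `2 × V₄` -/
def tt (b : Bool) (k : Fin 4) : Om := ⟨fun _ => if b then sr 0 else 1, vv k⟩
/-- vectors of full support -/
def fv (c : Z4) : V := fun i => om (c i)
/-- the sum of the exponents -/
def sm (c : Z4) : ZMod 3 := c 0 + c 1 + c 2 + c 3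
/-- membership in the four-group -/
def InV (s : Perm (Fin 4)) : Prop := ∃ k, s = vv k

instance decInV (s : Perm (Fin 4)) : Decidable (InV s) := inferInstanceAs (Decidable (∃ k, s = vv k))

instance finOm : Finite Om := Finite.of_equiv _ SemidirectProduct.equivProd.symm

theorem z2 : ∀ a : ZMod 2, a = 0 ∨ a = 1 := by decide
theorem z3 : ∀ a : ZMod 3, a = 0 ∨ a = 1 ∨ a = 2 := by decide
theorem a2_mul : ∀ g h : D3, ∀ v, a2 (g * h) v = a2 g (a2 h v) := by decide +kernel
theorem a2_one : ∀ v, a2 1 v = v := by decide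
theorem a2_r0 : ∀ v, a2 (r 0) v = v := by decide
theorem a2_add : ∀ g : D3, ∀ u v, a2 g (u + v) = a2 g u + a2 g v := by decide +kernel
theorem a2_zero : ∀ g : D3, a2 g 0 = 0 := by decide
theorem a2_ne : ∀ g : D3, ∀ v, a2 g v = 0 → v = 0 := by decide
theorem a2_ext : ∀ g h : D3, (∀ v, a2 g v = a2 h v) → g = h := by decide +kernel
theorem a2_r : ∀ c e, a2 (r c) (om e) = om (e + c) := by decide
theorem a2_sr : ∀ c e, a2 (sr c) (om e) = om (-e - c) := by decide
theorem a2_fix : ∀ c v, a2 (r c) v = v → c = 0 ∨ v = 0 := by decide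
theorem a2_sfix : ∀ c v, a2 (sr c) v = v → v = 0 ∨ v = om c := by decide
theorem a2_ex : ∀ f : ZMod 3 → ZMod 3, f.Injective → ∃ g : D3, ∀ e, a2 g (om e) = om (f e) := by decide +kernel
theorem om_ne : ∀ e, om e ≠ 0 := by decide
theorem om_inj : ∀ e e', om e = om e' → e = e' := by decide
theorem om_ex : ∀ v : V2, v = 0 ∨ ∃ e, v = om e := by decide
theorem om_add : ∀ e, om e + om (e + 1) = om (e + 2) := by decide
theorem b2_om : ∀ e e', b2 (om e) (om e') = if e = e' then 0 else 1 := by decide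
theorem q2_om : ∀ e, q2 (om e) = 1 := by decide
theorem q2_ne : ∀ v, v ≠ 0 → q2 v = 1 := by decide
theorem q2_zero : q2 0 = 0 := by decide
theorem q2_add : ∀ u v, q2 (u + v) = q2 u + q2 v + b2 u v := by decide
theorem b2_add : ∀ u v w, b2 (u + v) w = b2 u w + b2 v w := by decide
theorem b2_comm : ∀ u v, b2 u v = b2 v u := by decide
theorem b2_zero : ∀ v, b2 0 v = 0 := by decide
theorem b2_self : ∀ v, b2 v v = 0 := by decide
theorem b2_nd : ∀ u : V2, u ≠ 0 → ∃ v, b2 v u = 1 := by decide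
theorem v2_self : ∀ v : V2, v + v = 0 := by decide

variable {g h a b : Om} {i j k l : Fin 4} {u v w : V} {c c' : Z4}

theorem vself (v : V) : v + v = 0 := funext fun i => v2_self (v i)
theorem vneg (v : V) : -v = v := neg_eq_of_add_eq_zero_left (vself v)
theorem vadd0 : u + v = 0 ↔ u = v := by rw [add_eq_zero_iff_eq_neg, vneg]
theorem vcan (u v : V) : u + (u + v) = v := by rw [← add_assoc, vself, zero_add]
theorem ml (g h : Om) (i : Fin 4) : (g * h).left i = g.left i * h.left (g.right⁻¹ i) := rfl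
theorem il (g : Om) (i : Fin 4) : g⁻¹.left i = (g.left (g.right i))⁻¹ := rfl
theorem pai (s : Perm (Fin 4)) (i : Fin 4) : s (s⁻¹ i) = i := s.apply_symm_apply i
theorem pia (s : Perm (Fin 4)) (i : Fin 4) : s⁻¹ (s i) = i := s.symm_apply_apply i
theorem ac_mul (g h : Om) (v : V) : ac (g * h) v = ac g (ac h v) := funext fun _ => a2_mul _ _ _
theorem ac_one (v : V) : ac 1 v = v := funext fun _ => a2_one _
theorem ac_add (g : Om) (u v : V) : ac g (u + v) = ac g u + ac g v := funext fun _ => a2_add _ _ _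
theorem ac_zero (g : Om) : ac g 0 = 0 := funext fun _ => a2_zero _
theorem ac_inv (g : Om) (v : V) : ac g⁻¹ (ac g v) = v := by rw [← ac_mul, inv_mul_cancel, ac_one]
theorem ac_inv' (g : Om) (v : V) : ac g (ac g⁻¹ v) = v := by rw [← ac_mul, mul_inv_cancel, ac_one]
theorem ac_inj (e : ac g u = ac g v) : u = v := by rw [← ac_inv g u, e, ac_inv]
theorem acb (e : a.right = 1) (v : V) (i : Fin 4) : ac a v i = a2 (a.left i) (v i) := by rw [ac, e]; rfl
theorem ac_sg (g : Om) (i : Fin 4) (w : V2) : ac g (Pi.single i w) = Pi.single (g.right i) (a2 (g.left (g.right i)) w) :=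
  funext fun j => by
    by_cases e : j = g.right i
    · rw [e, ac, pia, Pi.single_eq_same, Pi.single_eq_same]
    · rw [ac, Pi.single_eq_of_ne e, Pi.single_eq_of_ne fun f => e (by rw [← f, pai]), a2_zero]

theorem vsum (v : V) : v = Pi.single 0 (v 0) + Pi.single 1 (v 1) + Pi.single 2 (v 2) + Pi.single 3 (v 3) :=
  funext fun i => by fin_cases i <;> simp

theorem csum (c : Z4) : c = (Pi.single 0 (c 0) : Z4) + (Pi.single 1 (c 1) : Z4) + (Pi.single 2 (c 2) : Z4) +
    (Pi.single 3 (c 3) : Z4) :=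
  funext fun i => by fin_cases i <;> simp

theorem om_ext (e : ∀ v, ac g v = ac h v) : g = h := by
  have k : ∀ j, g.right⁻¹ j = h.right⁻¹ j := fun j => by_contra fun n => by
    have := congrFun (e (Pi.single (g.right⁻¹ j) 1)) j
    rw [ac, ac, Pi.single_eq_same, Pi.single_eq_of_ne' n, a2_zero] at this
    exact absurd (a2_ne _ _ this) (by decide)
  refine SemidirectProduct.ext (funext fun j => a2_ext _ _ fun v => ?_) (inv_injective (Equiv.ext k))
  simpa only [ac] using congrFun (e fun _ => v) j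

theorem om_eq (e : ∀ i, g.left i = h.left i) (f : g.right = h.right) : g = h := SemidirectProduct.ext (funext e) f

instance decOm : DecidableEq Om := fun g h =>
  decidable_of_iff ((∀ i, g.left i = h.left i) ∧ g.right = h.right) ⟨fun e => om_eq e.1 e.2, fun e => e ▸ ⟨fun _ => rfl, rfl⟩⟩

theorem qf_add (u v : V) : qf (u + v) = qf u + qf v + bf u v := by simp only [qf, bf, Pi.add_apply, q2_add]; ring
theorem bf_add (u v w : V) : bf (u + v) w = bf u w + bf v w := by simp only [bf, Pi.add_apply, b2_add]; ring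
theorem bf_comm (u v : V) : bf u v = bf v u := by simp only [bf, b2_comm (u _)]
theorem bf_add' (u v w : V) : bf w (u + v) = bf w u + bf w v := by rw [bf_comm, bf_add, bf_comm u, bf_comm v]
theorem bf_self (v : V) : bf v v = 0 := by simp only [bf, b2_self, add_zero]
theorem bf_zero (v : V) : bf 0 v = 0 := by simp only [bf, Pi.zero_apply, b2_zero, add_zero]
theorem qf_zero : qf 0 = 0 := by decide
theorem bf_sg (i : Fin 4) (w : V2) (u : V) : bf (Pi.single i w) u = b2 w (u i) := by fin_cases i <;> simp [bf, b2_zero]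
theorem qf_sg (i : Fin 4) (w : V2) : qf (Pi.single i w) = q2 w := by fin_cases i <;> simp [qf, q2_zero]
theorem bf_sg' (n : i ≠ j) (w w' : V2) : bf (Pi.single i w) (Pi.single j w') = 0 := by
  rw [bf_sg, Pi.single_eq_of_ne n, b2_comm, b2_zero]
theorem bf_nd (n : u ≠ 0) : ∃ v, bf v u = 1 :=
  let ⟨i, e⟩ := Function.ne_iff.1 n; let ⟨w, f⟩ := b2_nd _ e; ⟨Pi.single i w, (bf_sg _ _ _).trans f⟩
theorem eq_sg (e : ∀ j ≠ i, u j = 0) : u = Pi.single i (u i) := funext fun j => by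
  by_cases f : j = i
  · rw [f, Pi.single_eq_same]
  · rw [Pi.single_eq_of_ne f, e j f]
theorem sg_inj {x y : V2} (n : x ≠ 0) (e : (Pi.single i x : V) = Pi.single j y) : i = j ∧ x = y := by
  have := congrFun e i
  by_cases f : i = j
  · subst f; exact ⟨rfl, by simpa using this⟩
  · rw [Pi.single_eq_same, Pi.single_eq_of_ne f] at this; exact absurd this n

theorem rot_add (c c' : Z4) : rot (c + c') = rot c * rot c' := rfl
theorem rot_zero : rot 0 = 1 := rfl
theorem rot_neg (c : Z4) : rot (-c) = (rot c)⁻¹ := rfl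
theorem rot_srot (c c' : Z4) : rot c * srot c' = srot (c' - c) := rfl
theorem srot_rot (c c' : Z4) : srot c * rot c' = srot (c + c') := rfl
theorem srot_srot (c c' : Z4) : srot c * srot c' = rot (c' - c) := rfl
theorem srot_inv (c : Z4) : (srot c)⁻¹ = srot c := rfl
theorem tt_s : tt true 0 = srot 0 := rfl
theorem tt_one : tt false 0 = 1 := rfl
theorem rot_inj (e : rot c = rot c') : c = c' := funext fun i => r.inj (congrFun (congrArg SemidirectProduct.left e) i)
theorem srot_inj (e : srot c = srot c') : c = c' := funext fun i => sr.inj (congrFun (congrArg SemidirectProduct.left e) i)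
theorem rot_ne_srot : rot c ≠ srot c' := fun e => by cases congrFun (congrArg SemidirectProduct.left e) 0
theorem c3 (c : Z4) : c + c + c = 0 := funext fun i => (by decide : ∀ a : ZMod 3, a + a + a = 0) (c i)
theorem c2 (e : c + c = 0) : c = 0 := by rw [← c3 c, e, zero_add]
theorem rot_cube (c : Z4) : rot c ^ 3 = 1 := by rw [pow_three', ← rot_add, ← rot_add, c3]; rfl
theorem srot_sq (c : Z4) : srot c * srot c = 1 := by rw [srot_srot, sub_self]; rfl
theorem rot_sq (e : rot c * rot c = 1) : c = 0 := c2 (rot_inj e)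
theorem ac_rot (c : Z4) (v : V) (i : Fin 4) : ac (rot c) v i = a2 (r (c i)) (v i) := rfl
theorem ac_srot (c : Z4) (v : V) (i : Fin 4) : ac (srot c) v i = a2 (sr (c i)) (v i) := rfl
theorem rot_fv (c c' : Z4) : ac (rot c) (fv c') = fv (c' + c) := funext fun _ => a2_r _ _
theorem srot_fv (c c' : Z4) : ac (srot c) (fv c') = fv (-c' - c) := funext fun _ => a2_sr _ _
theorem fv_inj (e : fv c = fv c') : c = c' := funext fun i => om_inj _ _ (congrFun e i)
theorem fv_ne (c : Z4) : fv c ≠ 0 := fun e => om_ne _ (congrFun e 0)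
theorem ex_fv (e : ∀ i, v i ≠ 0) : ∃ c, v = fv c := by
  choose c f using fun i => (om_ex (v i)).resolve_left (e i)
  exact ⟨c, funext f⟩
theorem rot_sg (c : Z4) (i : Fin 4) (w : V2) : ac (rot c) (Pi.single i w) = Pi.single i (a2 (r (c i)) w) := ac_sg _ _ _
theorem srot_sg (c : Z4) (i : Fin 4) (w : V2) : ac (srot c) (Pi.single i w) = Pi.single i (a2 (sr (c i)) w) := ac_sg _ _ _
theorem cjl (e : a.right = 1) (g : Om) (i : Fin 4) : (g * a * g⁻¹).left i = g.left i * a.left (g.right⁻¹ i) * (g.left i)⁻¹ := by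
  rw [ml, ml, il, SemidirectProduct.mul_right, e, mul_one, pai]
theorem cjr (e : a.right = 1) (g : Om) : (g * a * g⁻¹).right = 1 := by simp [e]
theorem cj_rot (g : Om) (c : Z4) : ∃ c' : Z4, g * rot c * g⁻¹ = rot c' ∧ ∀ i, c' i = 0 ↔ c (g.right⁻¹ i) = 0 := by
  choose d e using fun i => (by decide : ∀ g : D3, ∀ c, ∃ d, g * r c * g⁻¹ = r d ∧ (d = 0 ↔ c = 0)) (g.left i) (c (g.right⁻¹ i))
  exact ⟨d, om_eq (fun i => (cjl rfl g i).trans (e i).1) (cjr rfl g), fun i => (e i).2⟩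
theorem cj_srot (g : Om) (c : Z4) : ∃ c' : Z4, g * srot c * g⁻¹ = srot c' := by
  choose d e using fun i => (by decide : ∀ g : D3, ∀ c, ∃ d, g * sr c * g⁻¹ = sr d) (g.left i) (c (g.right⁻¹ i))
  exact ⟨d, om_eq (fun i => (cjl rfl g i).trans (e i)) (cjr rfl g)⟩

theorem tt_sq : ∀ b k, tt b k * tt b k = 1 := by decide +kernel
theorem tt_o : ∀ b k, ac (tt b k) (fv 0) = fv 0 := by decide +kernel
theorem tt_mul : ∀ b k b' k', ∃ b'' k'', tt b k * tt b' k' = tt b'' k'' := by decide +kernel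
theorem vv_tr : ∀ i j, ∃ k, vv k i = j := by decide
theorem vv_fix : ∀ k i, vv k i = i → k = 0 := by decide
theorem InV.cj {s : Perm (Fin 4)} (h : InV s) (t : Perm (Fin 4)) : InV (t * s * t⁻¹) := by
  obtain ⟨k, rfl⟩ := h; revert k t; decide +kernel
theorem inV_three : ∀ a : Perm (Fin 4), a * a = 1 → ∀ b, b * b = 1 → a * b = b * a → InV a ∨ InV b ∨ InV (a * b) := by
  decide +kernel
theorem inV_sq : ∀ a : Perm (Fin 4), a * a * (a * a) = 1 → InV (a * a) := by decide +kernel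
theorem not_inV : ∀ a : Perm (Fin 4), a * a = 1 → ¬ InV a → ∃ s : Perm (Fin 4), a (s 0) = s 1 ∧ a (s 2) = s 2 ∧ a (s 3) = s 3 := by
  decide +kernel
theorem vsum' (s : Perm (Fin 4)) (v : V) : v = Pi.single (s 0) (v (s 0)) + Pi.single (s 1) (v (s 1)) + Pi.single (s 2) (v (s 2)) +
    Pi.single (s 3) (v (s 3)) := funext fun i => by
  obtain ⟨m, rfl⟩ := s.surjective i
  fin_cases m <;> simp
theorem sgfv (e : ac g (fv c) = fv c) (m : Fin 4) :
    ac g (Pi.single m (om (c m))) = Pi.single (g.right m) (om (c (g.right m))) := by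
  have := congrFun e (g.right m)
  rw [ac, pia] at this
  exact (ac_sg _ _ _).trans (congrArg _ this)
theorem two_zero : ∀ v : V, qf v = 0 → ∀ i, v i = 0 → ∃ j ≠ i, v j = 0 := by decide +kernel
theorem cen_vv : ∀ a : Perm (Fin 4), (∀ k, a * vv k = vv k * a) → InV a := by decide +kernel
theorem tt_free : ∀ b k, tt b k ≠ 1 → ∀ w, ac (tt b k) w = w → ∃ v, w = v + ac (tt b k) v := by
  have : ∀ b k, tt b k ≠ 1 → ∀ w, ac (tt b k) w = w → ∃ x y z t, w = ![x, y, z, t] + ac (tt b k) ![x, y, z, t] := by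
    decide +kernel
  exact fun b k n w e => let ⟨_, _, _, _, f⟩ := this b k n w e; ⟨_, f⟩
theorem tt_mv : ∀ b k, tt b k ≠ 1 → ∃ b' k' x, bf x (fv 0) = 0 ∧
    ac (tt b k) (x + ac (tt b' k') x) ≠ x + ac (tt b' k') x := by decide +kernel

theorem card4 {B : Subgroup (Perm (Fin 4))} (e : ∀ s ∈ B, s * s = 1) : Nat.card B ≤ 4 := by
  have k : ∀ S : Finset (Perm (Fin 4)), S.card ≤ 4 → (∀ s ∈ B, s ∈ S) → Nat.card B ≤ 4 := fun S c m =>
    (Nat.card_le_card_of_injective (fun s : B => (⟨s, m s s.2⟩ : S)) fun _ _ f => Subtype.ext (congrArg Subtype.val f :)).trans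
      (by simpa using c)
  by_cases f : ∀ s ∈ B, InV s
  · exact k (Finset.univ.filter InV) (by decide +kernel) fun s m => by simp [f s m]
  push Not at f
  obtain ⟨t, m, n⟩ := f
  refine k (Finset.univ.filter fun s => s * t = t * s) ((by decide +kernel : ∀ t : Perm (Fin 4), t * t = 1 → ¬ InV t →
    (Finset.univ.filter fun s => s * t = t * s).card ≤ 4) t (e t m) n) fun s o => Finset.mem_filter.2 ⟨Finset.mem_univ _, ?_⟩
  rw [← inv_eq_of_mul_eq_one_right (e _ (mul_mem o m)), mul_inv_rev, inv_eq_of_mul_eq_one_right (e _ m),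
    inv_eq_of_mul_eq_one_right (e _ o)]

theorem sm12 : ∀ i j, sm (Pi.single i 1 + Pi.single j 2) = 0 := by decide

/-- the centraliser of `E` -/
theorem cenE (e : ∀ c, sm c = 0 → g * rot c = rot c * g) : ∃ c, g = rot c := by
  have k : ∀ c, sm c = 0 → ∀ i, g.left i * r (c (g.right⁻¹ i)) = r (c i) * g.left i := fun c s i =>
    congrFun (congrArg SemidirectProduct.left (e c s)) i
  have f : ∀ i, g.right⁻¹ i = i := fun i => by_contra fun n => by
    obtain ⟨c, s, a, b⟩ := (by decide +kernel : ∀ i j : Fin 4, j ≠ i → ∃ c : Z4, sm c = 0 ∧ c i = 1 ∧ c j = 0) i _ n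
    have := k c s i
    rw [a, b] at this
    revert this; generalize g.left i = d; revert d; decide
  have : ∀ i, ∃ c, g.left i = r c := fun i => by
    obtain ⟨c, s, a⟩ := (by decide +kernel : ∀ i : Fin 4, ∃ c : Z4, sm c = 0 ∧ c i = 1) i
    have := k c s i
    rw [f, a] at this
    revert this; generalize g.left i = d; revert d; decide
  choose c e using this
  exact ⟨c, om_eq e (inv_eq_one.1 (Equiv.ext f))⟩

/-- the normaliser of `E` in the base group -/
theorem normE (b : g.right = 1) (e : ∀ c, sm c = 0 → ∃ c', sm c' = 0 ∧ g * rot c = rot c' * g) : ∃ c, g = rot c ∨ g = srot c := by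
  have k : ∀ i j, (∃ c, g.left i = r c) → ∃ c, g.left j = r c := fun i j ⟨d, a⟩ => by
    by_cases n : i = j
    · exact ⟨d, n ▸ a⟩
    obtain ⟨c', s, f⟩ := e (Pi.single i 1 + Pi.single j 2) (sm12 i j)
    have f' : ∀ l, g.left l * r ((Pi.single i 1 + Pi.single j 2 : Z4) l) = r (c' l) * g.left l := fun l => by
      have := congrFun (congrArg SemidirectProduct.left f) l
      rwa [ml, ml, b] at this
    have h1 : ∀ g : D3, ∀ x y, g * r x = r y * g → (y = x ∨ y = -x) ∧ ((∃ c, g = r c) → y = x) ∧ (x ≠ 0 → y = x → ∃ c, g = r c) := by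
      decide
    have h2 := fun l => (h1 _ _ _ (f' l)).1
    have h3 := (h1 _ _ _ (f' i)).2.1 ⟨d, a⟩
    refine (h1 _ _ _ (f' j)).2.2 (by simp [Ne.symm n]; decide) ?_
    exact (by decide +kernel : ∀ i j : Fin 4, ¬i = j → ∀ c' : Z4, sm c' = 0 → (∀ l, c' l = (Pi.single i 1 + Pi.single j 2 : Z4) l ∨
      c' l = -(Pi.single i 1 + Pi.single j 2 : Z4) l) → c' i = (Pi.single i 1 + Pi.single j 2 : Z4) i →
      c' j = (Pi.single i 1 + Pi.single j 2 : Z4) j) i j n c' s h2 h3
  by_cases n : ∃ c, g.left 0 = r c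
  · choose c e using fun j => k 0 j n
    exact ⟨c, .inl (om_eq e b)⟩
  · choose c e using fun j => ((by decide : ∀ g : D3, (∃ c, g = r c) ∨ ∃ c, g = sr c) (g.left j)).resolve_left fun o => n (k j 0 o)
    exact ⟨c, .inr (om_eq e b)⟩

/-- additive maps preserving the frame -/
theorem frame {f : V → V} (ad : ∀ u v, f (u + v) = f u + f v) (inj : f.Injective)
    (bb : ∀ u v, bf (f u) (f v) = bf u v) (w1 : ∀ i e, ∃ j e', f (Pi.single i (om e)) = Pi.single j (om e')) : ∃ g, f = ac g := by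
  choose σ φ hφ using w1
  have s : ∀ i e, σ i e = σ i 0 := fun i e => by_contra fun n => by
    have := bb (Pi.single i (om e)) (Pi.single i (om 0))
    rw [hφ, hφ, bf_sg' n, bf_sg, Pi.single_eq_same, b2_om, if_neg (by rintro rfl; exact n rfl)] at this
    exact absurd this (by decide)
  have p : ∀ {i e j e'}, σ i 0 = σ j 0 → φ i e = φ j e' → i = j ∧ e = e' := fun {i e j e'} a b => by
    have := sg_inj (om_ne _) (inj (show f (Pi.single i (om e)) = f (Pi.single j (om e')) by rw [hφ, hφ, s i, s j, a, b]))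
    exact ⟨this.1, om_inj _ _ this.2⟩
  have pi : ∀ i, (φ i).Injective := fun i e e' b => (p rfl b).2
  have si : (σ · 0).Injective := fun i j a => let ⟨_, b⟩ := (Finite.injective_iff_surjective.1 (pi i)) (φ j 0); (p a b).1
  choose d hd using fun i => a2_ex _ (pi i)
  let τ : Perm (Fin 4) := .ofBijective _ (Finite.injective_iff_bijective.1 si)
  have f0 : f 0 = 0 := by simpa using ad 0 0
  have k : ∀ i w, f (Pi.single i w) = ac ⟨fun j => d (τ⁻¹ j), τ⟩ (Pi.single i w) := fun i w => by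
    rcases om_ex w with rfl | ⟨e, rfl⟩
    · rw [Pi.single_zero, f0, ac_zero]
    · rw [hφ, ac_sg, s]; simp only [pia, hd]; rfl
  exact ⟨⟨fun j => d (τ⁻¹ j), τ⟩, funext fun v => by rw [vsum v]; simp only [ad, ac_add, k]⟩

/-- The properties of `C(z) / Q`. -/
structure GH (Γ : Subgroup Om) : Prop where
  E : ∀ c, sm c = 0 → rot c ∈ Γ
  T : ∀ b k, tt b k ∈ Γ
  sg : ∀ g ∈ Γ, g.right = 1 → ∃ c, g = rot c ∨ g = srot c

namespace GH

variable {Γ : Subgroup Om} (H : GH Γ)
include H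

theorem srot_mem (m : srot c ∈ Γ) : rot c ∈ Γ := mq (mul_mem (H.T true 0) m) (by rw [tt_s, srot_srot, sub_zero])

theorem dec (m : g ∈ Γ) (e : InV g.right) : ∃ c b k, rot c ∈ Γ ∧ g = rot c * tt b k := by
  obtain ⟨k, e⟩ := e
  obtain ⟨c, f | f⟩ := H.sg _ (mul_mem m (inv_mem (H.T false k))) (by simp [e, tt])
  · exact ⟨c, false, k, f ▸ mul_mem m (inv_mem (H.T false k)), by rw [← f, inv_mul_cancel_right]⟩
  · refine ⟨-c, true, k, rot_neg c ▸ inv_mem (H.srot_mem (f ▸ mul_mem m (inv_mem (H.T false k)))), ?_⟩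
    rw [show tt true k = srot 0 * tt false k from om_eq (fun _ => rfl) (one_mul _).symm, ← mul_assoc, rot_srot, zero_sub, neg_neg,
      ← f, inv_mul_cancel_right]

theorem stab (m : g ∈ Γ) (e : InV g.right) (f : ac g (fv 0) = fv 0) : ∃ b k, g = tt b k := by
  obtain ⟨c, b, k, -, rfl⟩ := H.dec m e
  rw [ac_mul, tt_o, rot_fv, zero_add] at f
  exact ⟨b, k, by rw [fv_inj f, rot_zero, one_mul]⟩

theorem orb (m : g ∈ Γ) : ∃ c, rot c ∈ Γ ∧ ac g (fv 0) = fv c := by
  obtain ⟨c, e⟩ := cj_srot g 0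
  refine ⟨c, H.srot_mem (e ▸ mul_mem (mul_mem m (H.T true 0)) (inv_mem m)), funext fun i => ?_⟩
  have : ac (srot c) (ac g (fv 0)) = ac g (fv 0) := by rw [← e, ac_mul, ac_mul, ac_inv, ← tt_s, tt_o]
  exact (a2_sfix _ _ (congrFun this i)).resolve_left fun f => om_ne _ (a2_ne _ _ f)

theorem fixO (m : g ∈ Γ) (e : g * g = 1) : ∃ c, rot c ∈ Γ ∧ ac g (fv c) = fv c := by
  obtain ⟨c, o, f⟩ := H.orb m
  obtain ⟨c', k, -⟩ := cj_rot g c
  have k' : ∀ v, ac g (ac (rot c) v) = ac (rot c') (ac g v) := fun v => by rw [← k, ac_mul, ac_mul, ac_inv]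
  have h1 := k' (fv 0)
  rw [rot_fv, zero_add, ← f, ← ac_mul, e, ac_one, f, rot_fv] at h1
  have h2 : ac g (fv c) = fv 0 := by rw [← f, ← ac_mul, e, ac_one]
  refine ⟨c + c, rot_add c c ▸ mul_mem o o, ((congrArg _ (rot_fv c c).symm).trans (k' _)).trans ?_⟩
  rw [h2, rot_fv, zero_add, eq_neg_of_add_eq_zero_right (fv_inj h1).symm, eq_neg_of_add_eq_zero_left (c3 c)]

theorem caseA (n : ¬ ∀ c, rot c ∈ Γ) (m : rot c ∈ Γ) : sm c = 0 := by_contra fun s => n fun c' => by
  have : sm c' = 0 ∨ sm (c' - c) = 0 ∨ sm (c' + c) = 0 := by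
    simp only [sm, Pi.add_apply, Pi.sub_apply] at s ⊢
    rcases (by decide : ∀ a b : ZMod 3, a ≠ 0 → b = 0 ∨ b - a = 0 ∨ b + a = 0) _ (c' 0 + c' 1 + c' 2 + c' 3) s with h | h | h
    exacts [.inl h, .inr (.inl (by linear_combination h)), .inr (.inr (by linear_combination h))]
  rcases this with h | h | h
  · exact H.E _ h
  · exact mq (mul_mem (H.E _ h) m) (by rw [← rot_add, sub_add_cancel])
  · exact mq (mul_mem (H.E _ h) (inv_mem m)) (by rw [← rot_neg, ← rot_add, add_neg_cancel_right])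

theorem irr {U : AddSubgroup V} (l : ∀ g ∈ Γ, ∀ v ∈ U, ac g v ∈ U) (m : v ∈ U) (n : v ≠ 0) (w : V) : w ∈ U := by
  obtain ⟨i, n⟩ := Function.ne_iff.1 n
  have k : ∀ j ≠ i, ∀ v ∈ U, v i ≠ 0 → ∃ u ∈ U, u i ≠ 0 ∧ (∀ l, v l = 0 → u l = 0) ∧ ∀ l ≠ i, l ≠ j → u l = 0 := fun j a v o b =>
    ⟨_, add_mem o (l _ (H.E _ (sm12 i j)) v o), by
      rw [Pi.add_apply, ac_rot, Pi.add_apply, Pi.single_eq_same, Pi.single_eq_of_ne' a]
      exact (by decide : ∀ x : V2, x ≠ 0 → x + a2 (r (1 + 0)) x ≠ 0) _ b, fun l e => by rw [Pi.add_apply, ac_rot, e, a2_zero, add_zero], fun l e f => by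
      rw [Pi.add_apply, ac_rot, Pi.add_apply, Pi.single_eq_of_ne e, Pi.single_eq_of_ne f, add_zero, a2_r0, v2_self]⟩
  obtain ⟨j, j', a, b, c⟩ := (by decide : ∀ i : Fin 4, ∃ j j', j ≠ i ∧ j' ≠ i ∧ j ≠ j') i
  obtain ⟨u, o, p, -, q⟩ := k j a v m n
  obtain ⟨u, o, p, q', q''⟩ := k j' b u o p
  have h1 : u = Pi.single i (u i) := eq_sg fun l e => if f : l = j' then q' l (q l e (f ▸ c.symm)) else q'' l e f
  obtain ⟨e, h2⟩ := (om_ex (u i)).resolve_left p
  rw [h1, h2] at o
  have h3 : ∀ j x, Pi.single j x ∈ U := fun j x => by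
    rcases om_ex x with rfl | ⟨e', rfl⟩
    · rw [Pi.single_zero]; exact zero_mem _
    obtain ⟨k, rfl⟩ := vv_tr i j
    obtain ⟨c, s, f⟩ := (by decide +kernel : ∀ i : Fin 4, ∀ d, ∃ c : Z4, sm c = 0 ∧ c i = d) i (e' - e)
    have := l _ (H.T false k) _ (l _ (H.E c s) _ o)
    rwa [rot_sg, f, a2_r, add_sub_cancel, ac_sg, show (tt false k).left _ = 1 from rfl, a2_one] at this
  rw [vsum w]
  exact add_mem (add_mem (add_mem (h3 _ _) (h3 _ _)) (h3 _ _)) (h3 _ _)

end GH

end Cfsg.Lib.O83
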