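import Cfsg.Agent.Lib.O83.A

/-! Coordinates in the centraliser of an involution with `O₂ = 2¹⁺⁸` (helper24). -/

set_option autoImplicit false

namespace Cfsg.Lib.O83

open Subgroup Cfsg.Lib.BG Cfsg.Lib.Transfer Cfsg.Lib.ES
open scoped Cfsg.Lib.Transfer

variable {G : Type*} [Group G] {Q A : Subgroup G} {a b d g p t u w x y z z' : G} {π : G → V} {c : Z4} {i j k : Fin 4}

theorem cmc : Commute z a ↔ a ∈ 𝐂[z] := (mem_centralizer_singleton_iff.trans eq_comm).symm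
theorem cj_cm (g : G) (h : Commute a b) : Commute (g * a * g⁻¹) (g * b * g⁻¹) := h.map (MulAut.conj g)
theorem cj_eq (h : Commute a b) : a * b * a⁻¹ = b := by rw [h.eq, mul_inv_cancel_right]
theorem cm_of (h : a * b * a⁻¹ = b) : Commute a b := mul_inv_eq_iff_eq_mul.1 h
theorem inv2 (h : a * a = 1) : a⁻¹ = a := inv_eq_of_mul_eq_one_right h
theorem sq3 (h : a ^ 3 = 1) : a * a = a⁻¹ := eq_inv_of_mul_eq_one_left (by rw [← pow_three', h])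
theorem cj_pow {n : ℕ} (g : G) (h : a ^ n = 1) : (g * a * g⁻¹) ^ n = 1 := by rw [conj_pow, h, mul_one, mul_inv_cancel]
theorem cj_sq (g : G) (h : a * a = 1) : g * a * g⁻¹ * (g * a * g⁻¹) = 1 := by rw [conj_mul, h, mul_one, mul_inv_cancel]
theorem cjj (a b x : G) : a * (b * x * b⁻¹) * a⁻¹ = a * b * x * (a * b)⁻¹ := by group

/-- The extraspecial group. -/
structure Q0 (z : G) (Q : Subgroup G) (π : G → V) : Prop where
  zz : z * z = 1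
  z1 : z ≠ 1
  zQ : z ∈ Q
  cz : ∀ {x}, x ∈ Q → Commute z x
  π_mul : ∀ {x y}, x ∈ Q → y ∈ Q → π (x * y) = π x + π y
  π_zero : ∀ {x}, x ∈ Q → (π x = 0 ↔ x = 1 ∨ x = z)
  sur : ∀ v, ∃ x ∈ Q, π x = v
  sq : ∀ {x}, x ∈ Q → x * x = z ^ (qf (π x)).val

namespace Q0

variable (h : Q0 z Q π)
include h

theorem π_one : π 1 = 0 := (h.π_zero (one_mem _)).2 (.inl rfl)
theorem π_z : π z = 0 := (h.π_zero h.zQ).2 (.inr rfl)
theorem π_inv (m : x ∈ Q) : π x⁻¹ = π x := vadd0.1 (by rw [← h.π_mul (inv_mem m) m, inv_mul_cancel, h.π_one])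
theorem π_mz (m : x ∈ Q) : π (x * z) = π x := by rw [h.π_mul m h.zQ, h.π_z, add_zero]
theorem π_eq (m : x ∈ Q) (o : y ∈ Q) (e : π x = π y) : y = x ∨ y = x * z :=
  ((h.π_zero (mul_mem (inv_mem m) o)).1 (by rw [h.π_mul (inv_mem m) o, h.π_inv m, e, vself])).imp
    (fun f => (inv_mul_eq_one.1 f).symm) fun f => inv_mul_eq_iff_eq_mul.1 f
theorem π_ne (m : x ∈ Q) (n : x ≠ 1) (n' : x ≠ z) : π x ≠ 0 := fun e => ((h.π_zero m).1 e).elim n n'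
theorem π_cj (m : x ∈ Q) (o : y ∈ Q) : π (x * y * x⁻¹) = π y := by
  rw [h.π_mul (mul_mem m o) (inv_mem m), h.π_mul m o, h.π_inv m, add_comm, vcan]
theorem sq1 (m : x ∈ Q) (e : qf (π x) = 1) : x * x = z := by rw [h.sq m, e]; exact pow_one z
theorem sq0 (m : x ∈ Q) : x * x = 1 ↔ qf (π x) = 0 :=
  ⟨fun e => (z2 _).resolve_right fun f => h.z1 ((h.sq1 m f).symm.trans e), fun e => by rw [h.sq m, e]; exact pow_zero z⟩
theorem mzz (x : G) : x * z * z = x := by rw [mul_assoc, h.zz, mul_one]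
theorem mz_ne (x : G) : x * z ≠ x := fun e => h.z1 (mul_eq_left.1 e)

theorem cm (m : x ∈ Q) (o : y ∈ Q) : x * y * x⁻¹ = y ∧ bf (π x) (π y) = 0 ∨ x * y * x⁻¹ = y * z ∧ bf (π x) (π y) = 1 := by
  have e1 := h.sq (mul_mem m o)
  rw [h.π_mul m o, qf_add] at e1
  have k : ∀ a b : ZMod 2, z ^ (a + b).val = z ^ a.val * z ^ b.val := fun a b => by
    rcases z2 a with rfl | rfl <;> rcases z2 b with rfl | rfl
    exacts [by simp, by simp, by simp, (pow_zero z).trans (by simpa [ZMod.val_one] using h.zz.symm)]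
  rw [k, k, ← h.sq m, ← h.sq o] at e1
  have e2 : y * x = x * y * z ^ (bf (π x) (π y)).val := by
    refine mul_left_cancel (a := x) (mul_right_cancel (b := y) ?_)
    rw [← mul_assoc, mul_assoc _ x y, e1]
    cg [((h.cz o).pow_left (bf (π x) (π y)).val).eq]
  rcases z2 (bf (π x) (π y)) with e | e <;> rw [e] at e2
  · exact .inl ⟨mul_inv_eq_of_eq_mul (by simpa using e2.symm), e⟩
  · refine .inr ⟨mul_inv_eq_of_eq_mul ?_, e⟩
    rw [mul_assoc, (h.cz m).eq, ← mul_assoc, e2, ZMod.val_one, pow_one, h.mzz]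

theorem comm (m : x ∈ Q) (o : y ∈ Q) : Commute x y ↔ bf (π x) (π y) = 0 :=
  ⟨fun e => (h.cm m o).elim (·.2) fun f => absurd (f.1.symm.trans (cj_eq e)) (h.mz_ne y),
    fun e => (h.cm m o).elim (cm_of ·.1) fun f => absurd (e.symm.trans f.2) (by decide)⟩
theorem anti (m : x ∈ Q) (o : y ∈ Q) (e : bf (π x) (π y) = 1) : x * y * x⁻¹ = y * z :=
  (h.cm m o).elim (fun f => absurd (f.2.symm.trans e) (by decide)) (·.1)
theorem exz (m : x ∈ Q) (n : π x ≠ 0) : ∃ w ∈ Q, w * x * w⁻¹ = x * z :=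
  let ⟨v, e⟩ := bf_nd n; let ⟨w, o, f⟩ := h.sur v; ⟨w, o, h.anti o m (f ▸ e)⟩
theorem cen (m : x ∈ Q) (e : ∀ w ∈ Q, Commute w x) : x = 1 ∨ x = z := (h.π_zero m).1 (by_contra fun n =>
  let ⟨w, o, f⟩ := h.exz m n; h.mz_ne x (f.symm.trans (cj_eq (e w o))))
theorem four (m : x ∈ Q) : x ^ 4 = 1 := by
  rw [show 4 = 2 * 2 from rfl, pow_mul, pow_two x, h.sq m, ← pow_mul, mul_comm, pow_mul, pow_two, h.zz, one_pow]
theorem odd (m : x ∈ Q) {n : ℕ} (o : Odd n) (e : x ^ n = 1) : x = 1 :=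
  (pow_eq_one_iff_of_coprime (Nat.Coprime.pow_left 2 (Nat.coprime_two_left.2 o))).1 ⟨h.four m, e⟩
theorem ord : orderOf z = 2 := orderOf_eq_prime (by rw [pow_two, h.zz]) h.z1
theorem cube (c : Commute z a) (e : a ^ 3 = 1) (f : b ^ 3 = 1) (k : b = a ∨ b = a * z) : b = a := k.resolve_right fun k => by
  rw [k, c.symm.mul_pow, e, one_mul, pow_three, h.zz, mul_one] at f
  exact h.z1 f

/-- the central extension -/
def ext : ES.Ext 2 Q V := ⟨fun x => π x, fun k => ⟨z ^ k.val, pow_mem h.zQ _⟩, fun x y => h.π_mul x.2 y.2,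
  fun v => let ⟨x, m, e⟩ := h.sur v; ⟨⟨x, m⟩, e⟩, fun a b => Subtype.ext (by
    rcases z2 a with rfl | rfl <;> rcases z2 b with rfl | rfl
    exacts [by simp, by simp, by simp, (pow_zero z).trans (by simpa [ZMod.val_one] using h.zz.symm)]), fun a b e => by
    have := congrArg Subtype.val e
    rcases z2 a with rfl | rfl <;> rcases z2 b with rfl | rfl
    exacts [rfl, absurd (by simpa [ZMod.val_one] using this.symm) h.z1, absurd (by simpa [ZMod.val_one] using this) h.z1, rfl],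
  fun k x => Subtype.ext ((h.cz x.2).pow_left _).eq, fun x => (h.π_zero x.2).trans ⟨fun m => m.elim
    (fun e => ⟨0, Subtype.ext ((pow_zero z).trans e.symm)⟩) fun e => ⟨1, Subtype.ext ((pow_one z).trans e.symm)⟩, fun ⟨k, e⟩ => by
    rcases z2 k with rfl | rfl
    exacts [.inl ((congrArg Subtype.val e).symm.trans (pow_zero z)), .inr ((congrArg Subtype.val e).symm.trans (pow_one z))]⟩⟩

theorem card : Nat.card Q = 2 ^ (2 * 4 + 1) := by rw [h.ext.card_eq]; simp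

theorem xs [Finite G] : IsExtraspecial 2 Q :=
  h.ext.isExtraspecial_iff.2 ⟨h.ext.nondegenerate_iff.2 (le_antisymm (fun x m => h.ext.mem_Z.2 ((h.π_zero x.2).2
    (h.cen x.2 fun y o => (congrArg Subtype.val (mem_center_iff.1 m ⟨y, o⟩) :)))) h.ext.Z_le_center), inferInstance⟩

theorem ab32 [Finite G] (l : A ≤ Q) (e : ∀ x ∈ A, ∀ y ∈ A, x * y = y * x) : Nat.card A ≤ 32 :=
  (Nat.card_congr (subgroupOfEquivOfLe l).toEquiv) ▸ ES.card_le_of_isMulCommutative h.xs h.card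
    ⟨⟨fun a b => Subtype.ext (Subtype.ext (e _ a.2 _ b.2))⟩⟩

theorem inner [Finite G] (n : ∀ x ∈ Q, a * x * a⁻¹ ∈ Q) (e : ∀ x ∈ Q, π (a * x * a⁻¹) = π x) :
    ∃ q ∈ Q, ∀ x ∈ Q, Commute (q⁻¹ * a) x := by
  obtain ⟨q, m, k⟩ := exists_inv_mul_mem_centralizer h.xs (g := a) fun x o => by
    rcases h.π_eq o (n x o) (e x o).symm with f | f
    · exact mq (one_mem _) (by rw [commutatorElement_def, f, mul_inv_cancel])
    · exact mq (mem_inf.2 ⟨h.zQ, fun y p => (h.cz p).symm.eq⟩) (by rw [commutatorElement_def, f, ← (h.cz o).eq, mul_inv_cancel_right])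
  exact ⟨q, m, fun x o => (k x o).symm⟩

end Q0

/-- `O₂(C(z))` -/
def Qz (z : G) : Subgroup G := (pCore 2 𝐂[z]).map (𝐂[z]).subtype

theorem mem_Qz (e : g * z * g⁻¹ = z') : x ∈ Qz z' ↔ g⁻¹ * x * g ∈ Qz z := by
  rw [← e, Qz, ← map_conj_pCore_centralizer]; exact mem_conj
theorem cj_Qz (g : G) : g * x * g⁻¹ ∈ Qz (g * z * g⁻¹) ↔ x ∈ Qz z := by rw [mem_Qz rfl]; simp [mul_assoc]
theorem Qz_cm (m : x ∈ Qz z) : Commute z x := cmc.2 (Core.pCoreOf_le 2 _ m)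
theorem Qz_cj (c : Commute z a) (m : x ∈ Qz z) : a * x * a⁻¹ ∈ Qz z := cj_eq c.symm ▸ (cj_Qz a).2 m

/-- The action of `C(z)`. -/
structure Cd0 (z : G) (Q : Subgroup G) where
  /-- the projection -/
  π : G → V
  /-- the action -/
  ρ : G → Om
  q : Q0 z Q π
  nQ : ∀ {a x}, Commute z a → x ∈ Q → a * x * a⁻¹ ∈ Q
  act : ∀ {a x}, Commute z a → x ∈ Q → π (a * x * a⁻¹) = ac (ρ a) (π x)
  ker : ∀ {a}, Commute z a → ρ a = 1 → a ∈ Q
  E : ∀ c, sm c = 0 → ∃ a, Commute z a ∧ ρ a = rot c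
  sg : ∀ a, Commute z a → (ρ a).right = 1 → ∃ c, ρ a = rot c ∨ ρ a = srot c

namespace Cd0

variable (h : Cd0 z Q)
include h

theorem ρ_of (c : Commute z a) {g : Om} (e : ∀ x ∈ Q, h.π (a * x * a⁻¹) = ac g (h.π x)) : h.ρ a = g :=
  om_ext fun v => let ⟨x, m, f⟩ := h.q.sur v; by rw [← f, ← e x m, h.act c m]
theorem ρ_mul (c : Commute z a) (c' : Commute z b) : h.ρ (a * b) = h.ρ a * h.ρ b := h.ρ_of (c.mul_right c') fun x m => by
  rw [← cjj, h.act c (h.nQ c' m), h.act c' m, ac_mul]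
theorem ρ_Q (m : a ∈ Q) : h.ρ a = 1 := h.ρ_of (h.q.cz m) fun x o => by rw [h.q.π_cj m o, ac_one]
/-- the action as a homomorphism -/
def ρh : 𝐂[z] →* Om := .mk' (fun a => h.ρ a) fun a b => h.ρ_mul (cmc.2 a.2) (cmc.2 b.2)
theorem ρ_one : h.ρ 1 = 1 := h.ρ_Q (one_mem _)
theorem ρ_z : h.ρ z = 1 := h.ρ_Q h.q.zQ
theorem ρ_inv (c : Commute z a) : h.ρ a⁻¹ = (h.ρ a)⁻¹ := map_inv h.ρh ⟨a, cmc.1 c⟩
theorem ρ_pow (c : Commute z a) (n : ℕ) : h.ρ (a ^ n) = h.ρ a ^ n := map_pow h.ρh ⟨a, cmc.1 c⟩ n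
theorem ρ_cj (c : Commute z a) (c' : Commute z b) : h.ρ (a * b * a⁻¹) = h.ρ a * h.ρ b * (h.ρ a)⁻¹ := by
  rw [h.ρ_mul (c.mul_right c') c.inv_right, h.ρ_mul c c', h.ρ_inv c]
theorem ρ_Ql (m : a ∈ Q) (c : Commute z b) : h.ρ (a * b) = h.ρ b := by rw [h.ρ_mul (h.q.cz m) c, h.ρ_Q m, one_mul]
theorem ρ_Qr (m : a ∈ Q) (c : Commute z b) : h.ρ (b * a) = h.ρ b := by rw [h.ρ_mul c (h.q.cz m), h.ρ_Q m, mul_one]
theorem ρ_Qc (m : a ∈ Q) (c : Commute z b) : h.ρ (a * b * a⁻¹) = h.ρ b := by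
  rw [h.ρ_Qr (inv_mem m) ((h.q.cz m).mul_right c), h.ρ_Ql m c]
theorem ρ_eq (c : Commute z a) (c' : Commute z b) (e : h.ρ a = h.ρ b) : a * b⁻¹ ∈ Q :=
  h.ker (c.mul_right c'.inv_right) (by rw [h.ρ_mul c c'.inv_right, h.ρ_inv c', e, mul_inv_cancel])
theorem ρ_sq (c : Commute z a) (e : a * a ∈ Q) : h.ρ a * h.ρ a = 1 := by rw [← h.ρ_mul c c, h.ρ_Q e]
theorem ρ_p (c : Commute z a) {n : ℕ} (e : a ^ n = 1) : h.ρ a ^ n = 1 := by rw [← h.ρ_pow c, e, h.ρ_one]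
theorem ρ_cm (c : Commute z a) (c' : Commute z b) (e : Commute a b) : h.ρ a * h.ρ b = h.ρ b * h.ρ a := by
  rw [← h.ρ_mul c c', e.eq, h.ρ_mul c' c]
theorem fix (c : Commute z a) (m : x ∈ Q) (e : Commute a x) : ac (h.ρ a) (h.π x) = h.π x := by rw [← h.act c m, cj_eq e]
theorem cjf (c : Commute z a) (m : x ∈ Q) (o : y ∈ Q) (e : ac (h.ρ a) (h.π x) = h.π y) : a * x * a⁻¹ = y ∨ a * x * a⁻¹ = y * z :=
  h.q.π_eq o (h.nQ c m) (by rw [h.act c m, e])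
theorem cj_ex (c : Commute z a) (m : x ∈ Q) (o : y ∈ Q) (n : h.π y ≠ 0) (e : ac (h.ρ a) (h.π x) = h.π y) :
    ∃ b, Commute z b ∧ h.ρ b = h.ρ a ∧ b * x * b⁻¹ = y := by
  rcases h.cjf c m o e with f | f
  · exact ⟨a, c, rfl, f⟩
  obtain ⟨w, p, k⟩ := h.q.exz o n
  exact ⟨w⁻¹ * a, (h.q.cz p).inv_right.mul_right c, h.ρ_Ql (inv_mem p) c, by rw [← cjj, f, ← k]; group⟩
theorem c3 (c : Commute z a) (e : a ^ 3 = 1) (m : x ∈ Q) (f : ac (h.ρ a) (h.π x) = h.π x) : Commute a x :=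
  (h.cjf c m m f).elim cm_of fun k => absurd (show x * z = x by
    have k2 : a * (x * z) * a⁻¹ = x := by rw [← conj_mul, k, cj_eq c.symm, h.q.mzz]
    calc x * z = a * (a * (a * x * a⁻¹) * a⁻¹) * a⁻¹ := by rw [k, k2, k]
      _ = a ^ 3 * x * (a ^ 3)⁻¹ := by rw [pow_three']; cg []
      _ = x := by rw [e]; group) (h.q.mz_ne x)
theorem cenQ (e : ∀ x ∈ Q, Commute a x) : a = 1 ∨ a = z :=
  have c := (e z h.q.zQ).symm
  h.q.cen (h.ker c (h.ρ_of c fun x m => by rw [cj_eq (e x m), ac_one])) fun w o => (e w o).symm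
theorem lg [Finite G] : Lg Q z :=
  ⟨.of_isExtraspecial h.q.xs h.q.zQ h.q.ord fun _ m => cmc.1 (h.q.cz m), fun _ m =>
    (h.cenQ fun x o => (m x o).symm).elim (fun e => e ▸ one_mem _) fun e => e ▸ h.q.zQ,
    fun _ m => mem_normalizer_fintype fun _ o => h.nQ (cmc.2 m) o⟩
theorem mv (c : Commute z a) (m : p ∈ Q) : p * a * p⁻¹ * a⁻¹ ∈ Q ∧ h.π (p * a * p⁻¹ * a⁻¹) = h.π p + ac (h.ρ a) (h.π p) := by
  rw [show p * a * p⁻¹ * a⁻¹ = p * (a * p⁻¹ * a⁻¹) by group]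
  exact ⟨mul_mem m (h.nQ c (inv_mem m)), by rw [h.q.π_mul m (h.nQ c (inv_mem m)), h.act c (inv_mem m), h.q.π_inv m]⟩
theorem mv' (c : Commute z a) (m : p ∈ Q) (o : b * a⁻¹ ∈ Q) (e : h.π (b * a⁻¹) = h.π p + ac (h.ρ a) (h.π p)) :
    p * a * p⁻¹ = b ∨ p * a * p⁻¹ = b * z :=
  (h.q.π_eq o (h.mv c m).1 (e.trans (h.mv c m).2.symm)).imp (fun f => mul_right_cancel f) fun f =>
    mul_right_cancel (f.trans (by cg [c.eq]))
theorem th (c : Commute z a) (c' : Commute z b) (e : a ^ 3 = 1) (e' : b ^ 3 = 1) (f : h.ρ b = h.ρ a) :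
    ∃ p ∈ Q, p * a * p⁻¹ = b ∧ h.π p = ac (h.ρ a) (h.π (b * a⁻¹)) := by
  have m := h.ρ_eq c' c f
  obtain ⟨p, o, k⟩ := h.q.sur (ac (h.ρ a) (h.π (b * a⁻¹)))
  refine ⟨p, o, h.q.cube c' e' (cj_pow p e) (h.mv' c o m ?_), k⟩
  have h1 : b * a⁻¹ * (a * (b * a⁻¹) * a⁻¹ * (a * (a * (b * a⁻¹) * a⁻¹) * a⁻¹)) = 1 :=
    calc _ = b ^ 3 * (a ^ 3)⁻¹ := by rw [pow_three', pow_three']; cg []
      _ = 1 := by rw [e, e']; group
  have := congrArg h.π h1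
  rwa [h.q.π_mul m (mul_mem (h.nQ c m) (h.nQ c (h.nQ c m))), h.q.π_mul (h.nQ c m) (h.nQ c (h.nQ c m)), h.act c (h.nQ c m),
    h.act c m, h.q.π_one, vadd0, ← k] at this
theorem tw (c : Commute z a) (c' : Commute z b) (e : a * a = 1) (e' : b * b = 1) (f : h.ρ b = h.ρ a)
    (fr : ∀ w, ac (h.ρ a) w = w → ∃ v, w = v + ac (h.ρ a) v) : ∃ p ∈ Q, p * a * p⁻¹ = b ∨ p * a * p⁻¹ = b * z := by
  have m := h.ρ_eq c' c f
  obtain ⟨v, k⟩ := fr (h.π (b * a⁻¹)) (by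
    rw [← h.act c m, ← h.q.π_inv m, mul_inv_rev, inv_inv, inv2 e', mul_assoc, mul_assoc, ← mul_inv_rev, e, inv_one, mul_one])
  obtain ⟨p, o, rfl⟩ := h.q.sur v
  exact ⟨p, o, h.mv' c o m k⟩
/-- the image -/
def Γ : Subgroup Om := h.ρh.range
theorem mΓ (c : Commute z a) : h.ρ a ∈ h.Γ := ⟨⟨a, cmc.1 c⟩, rfl⟩
theorem exΓ {g : Om} (m : g ∈ h.Γ) : ∃ a, Commute z a ∧ h.ρ a = g := let ⟨a, e⟩ := m; ⟨a, cmc.2 a.2, e⟩

theorem two_rot (c : Commute z a) {n : ℕ} (e : a ^ 2 ^ n = 1) {d : Z4} (f : h.ρ a = rot d) : h.ρ a = 1 :=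
  (pow_eq_one_iff_of_coprime (Nat.Coprime.pow_left n (by decide : Nat.Coprime 2 3))).1 ⟨h.ρ_p c e, f ▸ rot_cube d⟩

theorem core [Finite G] : Qz z = Q := by
  have p : ∀ {a}, a ∈ Qz z → ∃ n, a ^ 2 ^ n = 1 := fun m =>
    let ⟨n, e⟩ := Core.pCoreOf_isPGroup 2 _ ⟨_, m⟩; ⟨n, congrArg Subtype.val e⟩
  refine le_antisymm (fun a m => ?_) (Core.le_pCoreOf (fun _ m => cmc.1 (h.q.cz m)) h.lg.norm h.lg.isPGroup)
  have c := Qz_cm m
  obtain ⟨d, e⟩ := cenE (g := h.ρ a) fun d s => by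
    obtain ⟨t, c', e⟩ := h.E d s
    obtain ⟨d', f, -⟩ := cj_rot (h.ρ a) d
    have o : a * t * a⁻¹ * t⁻¹ ∈ Qz z := mq (mul_mem m (Qz_cj c' (inv_mem m))) (by group)
    obtain ⟨n, k⟩ := p o
    have := h.two_rot (Qz_cm o) k (d := d' + -d) (by
      rw [h.ρ_mul ((c.mul_right c').mul_right c.inv_right) c'.inv_right, h.ρ_cj c c', h.ρ_inv c', e, f, rot_add, rot_neg])
    rw [h.ρ_mul ((c.mul_right c').mul_right c.inv_right) c'.inv_right, h.ρ_cj c c', h.ρ_inv c', e, mul_inv_eq_one] at this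
    exact mul_inv_eq_iff_eq_mul.1 this
  obtain ⟨n, k⟩ := p m
  exact h.ker c (h.two_rot c k e)

end Cd0

/-- The full data. -/
structure Cd (z : G) extends Cd0 z (Qz z) where
  /-- a conjugate of `z` -/
  y : G
  /-- an element swapping `y` and `z` -/
  n : G
  yQ : y ∈ Qz z
  πy : π y = fv 0
  nz : n * z * n⁻¹ = y
  ny : n * y * n⁻¹ = z
  T : ∀ b k, ∃ v ∈ Qz y, Commute z v ∧ ρ v = tt b k

/-- transport -/
def Cd.tr (h : Cd z) (e : g * z * g⁻¹ = z') : Cd z' :=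
  have c : ∀ {a}, Commute z' a → Commute z (g⁻¹ * a * g) := fun k => by simpa [← e, mul_assoc] using cj_cm g⁻¹ k
  have c' : ∀ {a}, Commute z a → Commute z' (g * a * g⁻¹) := fun k => e ▸ cj_cm g k
  have m : ∀ {x}, x ∈ Qz z' → g⁻¹ * x * g ∈ Qz z := (mem_Qz e).1
  have m' : ∀ {x}, x ∈ Qz z → g * x * g⁻¹ ∈ Qz z' := fun k => e ▸ (cj_Qz g).2 k
  have k : ∀ x, g⁻¹ * (g * x * g⁻¹) * g = x := fun x => by group
  have k2 : ∀ x y, g⁻¹ * (x * y) * g = g⁻¹ * x * g * (g⁻¹ * y * g) := fun x y => by group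
  { π := fun x => h.π (g⁻¹ * x * g)
    ρ := fun x => h.ρ (g⁻¹ * x * g)
    q := ⟨e ▸ cj_sq g h.q.zz, fun f => h.q.z1 (by simpa [← e] using f), e ▸ m' h.q.zQ, Qz_cm,
      fun a b => by rw [k2, h.q.π_mul (m a) (m b)], fun {x} a => by
        rw [h.q.π_zero (m a), ← e]
        exact or_congr ⟨fun f => conj_eq_one_iff.1 (by rwa [inv_inv]), fun f => by rw [f]; group⟩ ⟨fun f => by rw [← f]; group, fun f => by rw [f, k]⟩,
      fun v => let ⟨x, a, b⟩ := h.q.sur v; ⟨_, m' a, by rw [k, b]⟩, fun {x} a => by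
        rw [← e, conj_pow, ← h.q.sq (m a)]; group⟩
    nQ := Qz_cj
    act := fun a b => by rw [← h.act (c a) (m b)]; congr 1; group
    ker := fun a b => (mem_Qz e).2 (h.ker (c a) b)
    E := fun d s => let ⟨a, b, f⟩ := h.E d s; ⟨_, c' b, by rw [k, f]⟩
    sg := fun a b => h.sg _ (c b)
    y := g * h.y * g⁻¹
    n := g * h.n * g⁻¹
    yQ := m' h.yQ
    πy := by rw [k, h.πy]
    nz := by rw [← e, ← h.nz]; group
    ny := by rw [← e]; conv_rhs => rw [← h.ny]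
             group
    T := fun b j => let ⟨v, a, f, l⟩ := h.T b j; ⟨_, (cj_Qz g).2 a, c' f, by rw [k, l]⟩ }

end Cfsg.Lib.O83
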